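import Groth.Agent.Reductive.ExtMT.Field
import Groth.Agent.Reductive.MTLocTriv
import Groth.Agent.Reductive.MTImm
import Groth.Agent.Agf.SubobjGrp
import Groth.Agent.S8042

/-!
Over an algebraically closed field, a central group of multiplicative type of the quotient of a
connected affine group by its largest central subgroup of multiplicative type is trivial.
-/

set_option autoImplicit false
universe u

open CategoryTheory MonoidalCategory CartesianMonoidalCategory MonObj GrpObj AlgebraicGeometry
open Groth.Reductive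

noncomputable section

namespace Groth.Reductive.CentreQuot

variable {k : Type u} [Field k] [IsAlgClosed k]

theorem eq_one_of_central {G Z G' H : Over (Spec (CommRingCat.of k))} [GrpObj G] [GrpObj Z]
    [GrpObj G'] [GrpObj H] [IsAffine G.left] [ConnectedSpace G.left] [LocallyOfFiniteType G.hom]
    [LocallyOfFiniteType G'.hom]
    (z : Z ⟶ G) [IsMonHom z] [Mono z] (hZ : SGA3x.IsMultTypeFT Z)
    (hzc : ∀ (X : Over (Spec (CommRingCat.of k))) (x : X ⟶ Z) (g : X ⟶ G), (x ≫ z) * g = g * (x ≫ z))
    (huniv : ∀ (P : Over (Spec (CommRingCat.of k))) [GrpObj P] (w : P ⟶ G) [IsMonHom w],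
      SGA3x.IsMultTypeFT P →
      (∀ (X : Over (Spec (CommRingCat.of k))) (x : X ⟶ P) (g : X ⟶ G), (x ≫ w) * g = g * (x ≫ w)) →
      ∃ y : P ⟶ Z, y ≫ z = w)
    (q : G ⟶ G') [IsMonHom q] [Flat q.left] [Surjective q.left] (hker : AlgGrp.IsKernel z q)
    (v : H ⟶ G') [IsMonHom v] (hH : SGA3x.IsMultTypeFT H)
    (hv : ∀ (X : Over (Spec (CommRingCat.of k))) (x : X ⟶ H) (g : X ⟶ G'), (x ≫ v) * g = g * (x ≫ v)) :
    v = 1 := by
  haveI : IsSeparated G'.hom := Groth.AlgGrp1.isSeparated_grpObj G'
  haveI : IsAffineHom H.hom := (Groth.Reductive.MTInt.locTriv_of_multTypeFT hH).1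
  haveI : LocallyOfFiniteType H.hom := by
    haveI := (flat_lfp_of_multTypeFT H hH Groth.AlgSp2.flat_descendsAlong inferInstance).2
    infer_instance
  haveI : QuasiCompact G.hom := quasiCompact_of_compactSpace _
  haveI : IsAffineHom v.left := by
    haveI : IsAffineHom (v.left ≫ G'.hom) := by rw [Over.w v]; infer_instance
    exact IsAffineHom.of_comp v.left G'.hom
  haveI : LocallyOfFiniteType v.left := by
    haveI : LocallyOfFiniteType (v.left ≫ G'.hom) := by rw [Over.w v]; infer_instance
    exact locallyOfFiniteType_of_comp v.left G'.hom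
  -- the preimage of the image
  let P : Over (Spec (CommRingCat.of k)) := Over.mk (Limits.pullback.fst q.left v.left ≫ G.hom)
  let a : P ⟶ G := Over.homMk (Limits.pullback.fst q.left v.left) rfl
  let b : P ⟶ H := Over.homMk (Limits.pullback.snd q.left v.left) (by
    show _ = Limits.pullback.fst q.left v.left ≫ G.hom
    rw [← Over.w v, ← Limits.pullback.condition_assoc, Over.w q])
  have hab : a ≫ q = b ≫ v := Over.OverMorphism.ext Limits.pullback.condition
  have hex : ∀ {X : Over (Spec (CommRingCat.of k))} (g : X ⟶ G) (h : X ⟶ H), g ≫ q = h ≫ v →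
      ∃ x : X ⟶ P, x ≫ a = g ∧ x ≫ b = h := fun {X} g h e ↦
    ⟨Over.homMk (Limits.pullback.lift g.left h.left (congrArg (fun f ↦ f.left) e)) (by
        show _ ≫ _ ≫ G.hom = _
        rw [Limits.pullback.lift_fst_assoc, Over.w g]),
      Over.OverMorphism.ext (Limits.pullback.lift_fst _ _ _), Over.OverMorphism.ext (Limits.pullback.lift_snd _ _ _)⟩
  have hext : ∀ {X : Over (Spec (CommRingCat.of k))} (x y : X ⟶ P), x ≫ a = y ≫ a → x ≫ b = y ≫ b → x = y :=
    fun x y h1 h2 ↦ Over.OverMorphism.ext (Limits.pullback.hom_ext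
      (congrArg (fun f ↦ f.left) h1) (congrArg (fun f ↦ f.left) h2))
  haveI : Mono (lift a b) := ⟨fun x y h ↦ hext x y
    (by simpa using congrArg (· ≫ fst G H) h) (by simpa using congrArg (· ≫ snd G H) h)⟩
  obtain ⟨grpP, hc⟩ := Groth.Agf.exists_grpObj_of_subgroup (lift a b)
    (fun T x ↦ (x ≫ fst G H) ≫ q = (x ≫ snd G H) ≫ v)
    (fun T x ↦ ⟨fun ⟨y, hy⟩ ↦ by subst hy; simp [hab], fun h ↦ by
      obtain ⟨y, h1, h2⟩ := hex _ _ h
      exact ⟨y, by apply CartesianMonoidalCategory.hom_ext <;> simp [h1, h2]⟩⟩)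
    (fun T ↦ by simp [MonObj.one_comp])
    (fun T x y hx hy ↦ by simp only [MonObj.mul_comp, hx, hy])
    (fun T x hx ↦ by simp only [GrpObj.inv_comp, hx])
  haveI := hc
  haveI : IsMonHom a := by rw [← lift_fst a b]; infer_instance
  haveI : IsMonHom b := by rw [← lift_snd a b]; infer_instance
  haveI : IsAffineHom a.left := MorphismProperty.pullback_fst _ _ ‹IsAffineHom v.left›
  haveI : IsAffine P.left := isAffine_of_isAffineHom a.left
  haveI : LocallyOfFiniteType a.left := MorphismProperty.pullback_fst _ _ ‹LocallyOfFiniteType v.left›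
  haveI : LocallyOfFiniteType P.hom := inferInstanceAs (LocallyOfFiniteType (a.left ≫ G.hom))
  haveI : QuasiCompact P.hom := quasiCompact_of_compactSpace _
  haveI : QuasiCompact H.hom := inferInstance
  haveI : Flat b.left := MorphismProperty.pullback_snd _ _ ‹Flat q.left›
  haveI : Surjective b.left := MorphismProperty.pullback_snd _ _ ‹Surjective q.left›
  -- the kernel
  have hzq : z ≫ q = 1 := by rw [Hom.one_def]; exact hker.w
  obtain ⟨inc, hinca, hincb⟩ := hex z (1 : Z ⟶ H) (by rw [hzq, MonObj.one_comp])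
  haveI : Mono inc := ⟨fun x y h ↦ (cancel_mono z).1 (by rw [← hinca, reassoc_of% h])⟩
  haveI : IsMonHom inc := Groth.AlgGrp1.isMonHom_of_points _ fun X x y ↦ hext _ _
    (by simp only [Category.assoc, MonObj.mul_comp, hinca])
    (by simp only [Category.assoc, MonObj.mul_comp, hincb, MonObj.comp_one, _root_.mul_one])
  have hkerb : AlgGrp.IsKernel inc b :=
    ⟨⟨by rw [← Hom.one_def]; exact hincb⟩, ⟨Limits.PullbackCone.IsLimit.mk _
      (fun s ↦ hker.lift (s.fst ≫ a) (toUnit _) (by
        rw [Category.assoc, hab, reassoc_of% s.condition, toUnit_unique s.snd (toUnit _),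
          ← Category.assoc, ← Hom.one_def, MonObj.one_comp, Hom.one_def]))
      (fun s ↦ hext _ _ (by rw [Category.assoc, hinca, IsPullback.lift_fst])
        (by rw [Category.assoc, hincb, MonObj.comp_one, s.condition, toUnit_unique s.snd (toUnit _), Hom.one_def]))
      (fun s ↦ toUnit_unique _ _)
      (fun s m h1 _ ↦ (cancel_mono inc).1 (hext _ _
        (by rw [h1, Category.assoc, hinca, IsPullback.lift_fst])
        (by rw [h1, Category.assoc, hincb, MonObj.comp_one, s.condition, toUnit_unique s.snd (toUnit _), Hom.one_def])))⟩⟩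
  haveI : IsClosedImmersion inc.left := by
    haveI : IsClosedImmersion (η[H].left ≫ H.hom) := by
      rw [Over.w η[H]]
      exact MorphismProperty.id_mem @IsClosedImmersion _
    haveI : IsClosedImmersion η[H].left :=
      MorphismProperty.of_postcomp (W := @IsClosedImmersion) (W' := @IsSeparated) η[H].left
        H.hom inferInstance inferInstance
    exact MorphismProperty.of_isPullback (hkerb.map (Over.forget _)).flip ‹IsClosedImmersion η[H].left›
  haveI : LocallyOfFiniteType Z.hom := by rw [← Over.w inc]; infer_instance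
  haveI : QuasiCompact Z.hom := by rw [← Over.w inc]; infer_instance
  -- conjugation on the preimage
  have hconj : ∀ {X : Over (Spec (CommRingCat.of k))} (g : X ⟶ G) (x : X ⟶ P),
      (g * (x ≫ a) * g⁻¹) ≫ q = (x ≫ b) ≫ v := fun g x ↦ by
    rw [MonObj.mul_comp, MonObj.mul_comp, GrpObj.inv_comp, Category.assoc, hab, ← Category.assoc,
      ← hv _ (x ≫ b) (g ≫ q), mul_inv_cancel_right]
  obtain ⟨cj, hcja, hcjb⟩ := hex _ _ (hconj (fst G P) (snd G P))
  have hca : ∀ {X : Over (Spec (CommRingCat.of k))} (g : X ⟶ G) (x : X ⟶ P),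
      (lift g x ≫ cj) ≫ a = g * (x ≫ a) * g⁻¹ := fun g x ↦ by
    rw [Category.assoc, hcja]
    simp only [MonObj.comp_mul, GrpObj.comp_inv, lift_fst, lift_snd_assoc]
  have hcb : ∀ {X : Over (Spec (CommRingCat.of k))} (g : X ⟶ G) (x : X ⟶ P),
      (lift g x ≫ cj) ≫ b = x ≫ b := fun g x ↦ by
    rw [Category.assoc, hcjb, lift_snd_assoc]
  let act : AlgGrp.Action G P :=
    { act := cj
      one_act := by
        rw [show η[G] ▷ P = lift (fst _ P ≫ η[G]) (snd _ P) by
          apply CartesianMonoidalCategory.hom_ext <;> simp, leftUnitor_hom]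
        apply hext
        · rw [hca, toUnit_unique (fst _ P) (toUnit _), ← Hom.one_def]
          simp
        · rw [hcb]
      mul_act := by
        rw [show μ[G] ▷ P = lift (fst _ P ≫ μ[G]) (snd _ P) by
          apply CartesianMonoidalCategory.hom_ext <;> simp,
          ← Category.assoc, show (α_ G G P).hom ≫ (G ◁ cj) =
            lift (fst _ P ≫ fst G G) (lift (fst _ P ≫ snd G G) (snd _ P) ≫ cj) by
            rw [show (α_ G G P).hom = lift (fst _ P ≫ fst G G) (lift (fst _ P ≫ snd G G) (snd _ P)) by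
              apply CartesianMonoidalCategory.hom_ext
              · simp
              · apply CartesianMonoidalCategory.hom_ext <;> simp, lift_whiskerLeft]]
        have hμ : fst (G ⊗ G) P ≫ μ[G] = (fst _ P ≫ fst G G) * (fst _ P ≫ snd G G) := by
          rw [Hom.mul_def, ← comp_lift, lift_fst_snd, Category.comp_id]
        apply hext
        · rw [hca, hca, hca, hμ]
          group
        · rw [hcb, hcb, hcb] }
  have hlem : ∀ {X : Over (Spec (CommRingCat.of k))} (g : X ⟶ G) (x : X ⟶ P),
      g * (x ≫ a) = (x ≫ a) * g := fun {X} g x ↦ by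
    have := congrArg (· ≫ a) (Groth.Agent.S8042.result k G P Z H inc
      (fun T p n ↦ hext _ _
        (by simp only [MonObj.mul_comp, Category.assoc, hinca, hzc])
        (by simp only [MonObj.mul_comp, Category.assoc, hincb, MonObj.comp_one, _root_.mul_one, _root_.one_mul]))
      b hkerb hZ hH act
      (fun T g p p' ↦ hext _ _
        (by rw [MonObj.mul_comp]; show (lift g (p * p') ≫ cj) ≫ a = _; rw [hca]
            show _ = (lift g p ≫ cj) ≫ a * ((lift g p' ≫ cj) ≫ a)
            rw [hca, hca, MonObj.mul_comp]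
            group)
        (by rw [MonObj.mul_comp]; show (lift g (p * p') ≫ cj) ≫ b = _; rw [hcb]
            show _ = (lift g p ≫ cj) ≫ b * ((lift g p' ≫ cj) ≫ b)
            rw [hcb, hcb, MonObj.mul_comp]))
      (fun T g n ↦ ⟨n, hext _ _
        (by show (lift g (n ≫ inc) ≫ cj) ≫ a = _; rw [hca, Category.assoc, hinca, ← hzc, mul_inv_cancel_right])
        (by show (lift g (n ≫ inc) ≫ cj) ≫ b = _; rw [hcb])⟩)
      X g x)
    change (lift g x ≫ cj) ≫ a = x ≫ a at this
    rwa [hca, mul_inv_eq_iff_eq_mul] at this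
  have hP : SGA3x.IsMultTypeFT P := ExtMT.isMultTypeFT_of_ext
    (fun X x y ↦ hext _ _ (by simp only [MonObj.mul_comp]; exact hlem _ y)
      (by simp only [MonObj.mul_comp]; exact FreeDiag.comm_of_multTypeFT hH X _ _))
    b inc hkerb hZ hH
  obtain ⟨y, hy⟩ := huniv P a hP fun X x g ↦ (hlem g x).symm
  refine (Groth.AlgGrp1.isCover b).cancel ?_
  rw [← hab, ← hy, Category.assoc, hzq, MonObj.comp_one, MonObj.comp_one]

end Groth.Reductive.CentreQuot
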